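import Mathlib.Algebra.MvPolynomial.PDeriv
import Mathlib.Algebra.MvPolynomial.Rename
import Mathlib.RingTheory.MvPolynomial.WeightedHomogeneous
import Mathlib.Algebra.CharZero.Defs
import Mathlib.Tactic.Ring
import Mathlib.Tactic.LinearCombination
import Mathlib.Tactic.FinCases

/-!
# Forms of bidegree (3,3) in four variables
-/

set_option autoImplicit false

namespace K881.Bidegree

open MvPolynomial

universe u

variable {k : Type u} [Field k]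

/-- exponent of `x0^i x1^(3-i) y0^j y1^(3-j)` -/
noncomputable def E (i j : Fin 4) : Fin 4 →₀ ℕ :=
  Finsupp.equivFunOnFinite.symm ![(i : ℕ), 3 - (i : ℕ), (j : ℕ), 3 - (j : ℕ)]

/-- the general form of bidegree `(3,3)` -/
noncomputable def P (d : Fin 4 → Fin 4 → k) : MvPolynomial (Fin 4) k :=
  ∑ i : Fin 4, ∑ j : Fin 4, C (d i j) *
    (X 0 ^ (i : ℕ) * X 1 ^ (3 - (i : ℕ)) * X 2 ^ (j : ℕ) * X 3 ^ (3 - (j : ℕ)))

theorem E_inj {i j i' j' : Fin 4} (h : E i j = E i' j') : i = i' ∧ j = j' := by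
  have h0 := DFunLike.congr_fun h 0
  have h2 := DFunLike.congr_fun h 2
  simp [E] at h0 h2
  exact ⟨Fin.ext h0, Fin.ext h2⟩

theorem P_eq (d : Fin 4 → Fin 4 → k) : P d = ∑ i : Fin 4, ∑ j : Fin 4, monomial (E i j) (d i j) := by
  refine Finset.sum_congr rfl fun i _ => Finset.sum_congr rfl fun j _ => ?_
  rw [monomial_eq, Finsupp.prod_fintype _ _ (fun _ => by simp), Fin.prod_univ_four]
  simp [E]

theorem coeff_P (d : Fin 4 → Fin 4 → k) (i j : Fin 4) : coeff (E i j) (P d) = d i j := by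
  classical
  rw [P_eq]
  simp only [coeff_sum, coeff_monomial]
  rw [Finset.sum_eq_single i, Finset.sum_eq_single j]
  · simp
  · intro j' _ hj'
    rw [if_neg]
    intro h
    exact hj' (E_inj h).2
  · simp
  · intro i' _ hi'
    refine Finset.sum_eq_zero fun j' _ => ?_
    rw [if_neg]
    intro h
    exact hi' (E_inj h).1
  · simp

theorem P_injective {d d' : Fin 4 → Fin 4 → k} (h : P d = P d') (i j : Fin 4) : d i j = d' i j := by
  rw [← coeff_P d i j, h, coeff_P]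

/-- Every form of bidegree `(3,3)` has this shape. -/
theorem eq_P (f : MvPolynomial (Fin 4) k)
    (h1 : f.IsWeightedHomogeneous (![1, 1, 0, 0] : Fin 4 → ℕ) 3)
    (h2 : f.IsWeightedHomogeneous (![0, 0, 1, 1] : Fin 4 → ℕ) 3) :
    f = P (fun i j => coeff (E i j) f) := by
  classical
  ext m
  by_cases hm : ∃ i j, m = E i j
  · obtain ⟨i, j, rfl⟩ := hm
    rw [coeff_P]
  · have e1 : coeff m f = 0 := by
      by_contra hc
      apply hm
      have w1 := h1 hc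
      have w2 := h2 hc
      rw [Finsupp.weight_apply, Finsupp.sum_fintype _ _ (fun _ => by simp), Fin.sum_univ_four] at w1 w2
      simp at w1 w2
      refine ⟨⟨m 0, by omega⟩, ⟨m 2, by omega⟩, ?_⟩
      ext l
      fin_cases l
      · simp [E]
      · simp [E]; omega
      · simp [E]
      · simp [E]; omega
    have e2 : coeff m (P (fun i j => coeff (E i j) f)) = 0 := by
      rw [P_eq]
      simp only [coeff_sum, coeff_monomial]
      refine Finset.sum_eq_zero fun i _ => Finset.sum_eq_zero fun j _ => ?_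
      rw [if_neg]
      intro h
      exact hm ⟨i, j, h.symm⟩
    rw [e1, e2]

theorem rename_iota (d : Fin 4 → Fin 4 → k) :
    rename (![2, 3, 0, 1] : Fin 4 → Fin 4) (P d) = P (fun i j => d j i) := by
  simp [P, Fin.sum_univ_four]
  ring

/-- The linear conditions on the coefficients of a `(3,3)` form whose restriction to the diagonal
is divisible by `(x0 x1 (x0 - x1))^2`. -/
theorem conditions (d : Fin 4 → Fin 4 → k)
    (h : (X 0 * X 1 * (X 0 - X 1)) ^ 2 ∣ rename (![0, 1, 0, 1] : Fin 4 → Fin 2) (P d)) :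
    d 0 0 = 0 ∧ d 0 1 + d 1 0 = 0 ∧ d 3 3 = 0 ∧ d 3 2 + d 2 3 = 0 ∧
    (∑ i : Fin 4, ∑ j : Fin 4, d i j) = 0 ∧
    (∑ i : Fin 4, ∑ j : Fin 4, (((i : ℕ) : k) + ((j : ℕ) : k)) * d i j) = 0 := by
  obtain ⟨Q, hQ⟩ := h
  have c1 := congrArg (eval (![0, 1] : Fin 2 → k)) hQ
  have c2 := congrArg (fun q => eval (![0, 1] : Fin 2 → k) (pderiv 0 q)) hQ
  have c3 := congrArg (eval (![1, 0] : Fin 2 → k)) hQ
  have c4 := congrArg (fun q => eval (![1, 0] : Fin 2 → k) (pderiv 1 q)) hQ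
  have c5 := congrArg (eval (![1, 1] : Fin 2 → k)) hQ
  have c6 := congrArg (fun q => eval (![1, 1] : Fin 2 → k) (pderiv 0 q)) hQ
  simp [P, Fin.sum_univ_four, pderiv_X] at c1 c2 c3 c4 c5 c6
  refine ⟨?_, ?_, ?_, ?_, ?_, ?_⟩
  · linear_combination c1
  · linear_combination c2
  · linear_combination c3
  · linear_combination c4
  · simp [Fin.sum_univ_four]
    linear_combination c5
  · simp [Fin.sum_univ_four]
    linear_combination c6

/-- `P` with its sixteen coefficients as arguments -/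
noncomputable def P16 (a00 a01 a02 a03 a10 a11 a12 a13 a20 a21 a22 a23 a30 a31 a32 a33 : k) : MvPolynomial (Fin 4) k :=
    C a00 * (X 0 ^ 0 * X 1 ^ 3 * X 2 ^ 0 * X 3 ^ 3) +
    C a01 * (X 0 ^ 0 * X 1 ^ 3 * X 2 ^ 1 * X 3 ^ 2) +
    C a02 * (X 0 ^ 0 * X 1 ^ 3 * X 2 ^ 2 * X 3 ^ 1) +
    C a03 * (X 0 ^ 0 * X 1 ^ 3 * X 2 ^ 3 * X 3 ^ 0) +
    C a10 * (X 0 ^ 1 * X 1 ^ 2 * X 2 ^ 0 * X 3 ^ 3) +
    C a11 * (X 0 ^ 1 * X 1 ^ 2 * X 2 ^ 1 * X 3 ^ 2) +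
    C a12 * (X 0 ^ 1 * X 1 ^ 2 * X 2 ^ 2 * X 3 ^ 1) +
    C a13 * (X 0 ^ 1 * X 1 ^ 2 * X 2 ^ 3 * X 3 ^ 0) +
    C a20 * (X 0 ^ 2 * X 1 ^ 1 * X 2 ^ 0 * X 3 ^ 3) +
    C a21 * (X 0 ^ 2 * X 1 ^ 1 * X 2 ^ 1 * X 3 ^ 2) +
    C a22 * (X 0 ^ 2 * X 1 ^ 1 * X 2 ^ 2 * X 3 ^ 1) +
    C a23 * (X 0 ^ 2 * X 1 ^ 1 * X 2 ^ 3 * X 3 ^ 0) +
    C a30 * (X 0 ^ 3 * X 1 ^ 0 * X 2 ^ 0 * X 3 ^ 3) +
    C a31 * (X 0 ^ 3 * X 1 ^ 0 * X 2 ^ 1 * X 3 ^ 2) +
    C a32 * (X 0 ^ 3 * X 1 ^ 0 * X 2 ^ 2 * X 3 ^ 1) +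
    C a33 * (X 0 ^ 3 * X 1 ^ 0 * X 2 ^ 3 * X 3 ^ 0)

theorem P_eq_P16 (d : Fin 4 → Fin 4 → k) : P d = P16 (d 0 0) (d 0 1) (d 0 2) (d 0 3) (d 1 0) (d 1 1) (d 1 2) (d 1 3) (d 2 0) (d 2 1) (d 2 2) (d 2 3) (d 3 0) (d 3 1) (d 3 2) (d 3 3) := by
  simp only [P, P16, Fin.sum_univ_four]
  simp only [Fin.val_zero, Fin.val_one, Fin.val_two, show ((3 : Fin 4) : ℕ) = 3 from rfl]
  ring

end K881.Bidegree
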